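import Groth.Agent.Lib.Helper74.CohColim.FinSExt
import Groth.Agent.Lib.Helper74.ToposFilt
import Mathlib

/-!
# Filtered colimits of abelian sheaves and morphisms out of free abelian sheaves

* `preservesColimit_sheafCompose`: `sheafCompose J F` preserves the colimits preserved by `F`,
  when `F` preserves sheafification.
* `exists_factor_ab`, `exists_map_eq_ab`: morphisms `ℤ[L] ⟶ colim D` for a filtered diagram `D` of
  abelian sheaves and `L` coherent (resp. quasi-compact).
-/

set_option autoImplicit false
universe u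
open CategoryTheory CategoryTheory.Limits Opposite

namespace Groth.Agent.Lib.Helper74.CohColim

open Groth.Agent.Lib.Helper28 Groth.Agent.Lib.Helper5.CechNerve Groth.Agent.Lib.Helper74.ToposFilt

section general

variable {C : Type u} [SmallCategory C] (J : GrothendieckTopology C)
  {A B : Type (u + 1)} [Category.{u} A] [Category.{u} B] (F : A ⥤ B)
  [HasWeakSheafify J A] [HasWeakSheafify J B] [J.HasSheafCompose F] [J.PreservesSheafification F]
  {Λ : Type u} [SmallCategory Λ] [HasColimitsOfShape Λ A] [PreservesColimitsOfShape Λ F]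

lemma preservesColimit_sheafCompose (D : Λ ⥤ Sheaf J A) :
    PreservesColimit D (sheafCompose J F) := by
  let K' := D ⋙ sheafToPresheaf J A
  let L := presheafToSheaf J A
  let G := sheafCompose J F
  have e : K' ⋙ L ≅ D := Functor.associator _ _ _ ≪≫
    Functor.isoWhiskerLeft D (asIso (sheafificationAdjunction J A).counit) ≪≫ D.rightUnitor
  have h0 : PreservesColimit K' ((Functor.whiskeringRight Cᵒᵖ A B).obj F ⋙ presheafToSheaf J B) :=
    inferInstance
  have h1 : PreservesColimit K' (L ⋙ G) :=
    preservesColimit_of_natIso K' (sheafComposeNatIso J F (sheafificationAdjunction J A)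
      (sheafificationAdjunction J B))
  have h2 : PreservesColimit (K' ⋙ L) G :=
    preservesColimit_of_preserves_colimit_cocone
      (isColimitOfPreserves L (colimit.isColimit K'))
      (isColimitOfPreserves (L ⋙ G) (colimit.isColimit K'))
  exact preservesColimit_of_iso_diagram G e

end general

variable {C : Type u} [SmallCategory C] {J : GrothendieckTopology C}

/-- the underlying sheaf of sets of an abelian sheaf -/
noncomputable abbrev Fg (J : GrothendieckTopology C) :
    Sheaf J AddCommGrpCat.{u} ⥤ Sheaf J (Type u) :=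
  sheafCompose J (forget AddCommGrpCat.{u})

variable {Λ : Type u} [SmallCategory Λ] [IsFiltered Λ] (D : Λ ⥤ Sheaf J AddCommGrpCat.{u})

lemma preservesColimit_Fg : PreservesColimit D (Fg J) :=
  preservesColimit_sheafCompose J (forget AddCommGrpCat.{u}) D

lemma hasQCGenerators_of_isGenerating {S : Set (ToposFin.Sh J)}
    (hqc : ∀ K ∈ S, ToposFin.IsQC K) (hgen : ToposFin.IsGenerating S) :
    ToposFin.HasQCGenerators J := by
  intro X
  obtain ⟨ι, F, π, hF, hπ⟩ := hgen X
  exact ⟨ι, F, π, fun i => hqc _ (hF i), (epi_sigmaDesc_iff π).mpr hπ⟩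

/-- a morphism from the free abelian sheaf on a coherent object to a filtered colimit factors
through a stage -/
lemma exists_factor_ab (hE : ToposFin.HasQCGenerators J) {L : ToposFin.Sh J}
    (hL : ToposFin.IsCoherent L) {c : Cocone D} (hc : IsColimit c) (φ : (Zf J).obj L ⟶ c.pt) :
    ∃ (j : Λ) (t : (Zf J).obj L ⟶ D.obj j), t ≫ c.ι.app j = φ := by
  have := preservesColimit_Fg D
  have hc' : IsColimit ((Fg J).mapCocone c) := isColimitOfPreserves (Fg J) hc
  obtain ⟨j, t, ht⟩ := exists_factor_of_isCoherent hE hL (D ⋙ Fg J) hc'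
    ((adjZ J).homEquiv _ _ φ)
  refine ⟨j, ((adjZ J).homEquiv _ _).symm t, ?_⟩
  apply ((adjZ J).homEquiv _ _).injective
  rw [Adjunction.homEquiv_naturality_right, Equiv.apply_symm_apply]
  exact ht

/-- two morphisms from the free abelian sheaf on a quasi-compact object to a stage of a filtered
diagram which agree in the colimit agree at a later stage -/
lemma exists_map_eq_ab {L : ToposFin.Sh J} (hL : ToposFin.IsQC L) {c : Cocone D}
    (hc : IsColimit c) (k : Λ) (f₁ f₂ : (Zf J).obj L ⟶ D.obj k)
    (h : f₁ ≫ c.ι.app k = f₂ ≫ c.ι.app k) :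
    ∃ (j : Λ) (φ : k ⟶ j), f₁ ≫ D.map φ = f₂ ≫ D.map φ := by
  have := preservesColimit_Fg D
  have hc' : IsColimit ((Fg J).mapCocone c) := isColimitOfPreserves (Fg J) hc
  obtain ⟨j, φ, hφ⟩ := exists_map_eq_of_isQC (D ⋙ Fg J) hL hc' k
    ((adjZ J).homEquiv _ _ f₁) ((adjZ J).homEquiv _ _ f₂) (by
      have := congrArg ((adjZ J).homEquiv _ _) h
      rw [Adjunction.homEquiv_naturality_right, Adjunction.homEquiv_naturality_right] at this
      exact this)
  refine ⟨j, φ, ?_⟩
  apply ((adjZ J).homEquiv _ _).injective
  rw [Adjunction.homEquiv_naturality_right, Adjunction.homEquiv_naturality_right]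
  exact hφ

end Groth.Agent.Lib.Helper74.CohColim
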