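import Groth.Agent.Lib.Helper74.CohColim.RelCartan
import Groth.Agent.Lib.Helper74.CohColim.AbFilt
import Groth.Agent.Lib.Helper30.AcyclicRes
import Mathlib

/-!
# Filtered colimits of `S`-acyclic abelian sheaves are `S`-acyclic

`S` is a generating set of quasi-compact objects of a sheaf topos, stable under fibre products.
-/

set_option autoImplicit false
universe u
open CategoryTheory CategoryTheory.Limits Opposite

namespace Groth.Agent.Lib.Helper74.CohColim

open Groth.Agent.Lib.Helper28 Groth.Agent.Lib.Helper5 Groth.Agent.Lib.Helper5.CechNerve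

variable {C : Type u} [SmallCategory C] {J : GrothendieckTopology C}
variable {S : Set (ToposFin.Sh J)}

section

variable (hpb : ToposFin.ClosedUnderPullbacks S)

include hpb in
/-- `S`-acyclic sheaves are Čech-acyclic -/
lemma cechAcyc_of_acyclic (F : Sheaf J AddCommGrpCat.{u})
    (hF : ∀ K ∈ S, ∀ q : ℕ, Subsingleton (CohCx.HK K F (q + 1))) : CechAcyc S F := by
  intro K' K f hK hK' hf q
  rw [isZero_homology_succ_iff]
  intro φ hφ
  have hP : ∀ n, Groth.Agent.Lib.Helper30.AcyclicRes.Acyc.{u} F ((AC f).X n) := fun n p =>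
    (FinS.cechNerve f hpb hK hK' n).subsingleton_HK F (p + 1) (fun M hM => hF M hM p)
  have hM : Groth.Agent.Lib.Helper30.AcyclicRes.Acyc.{u} F ((Zf J).obj K) := fun p => hF K hK p
  exact Groth.Agent.Lib.Helper30.AcyclicRes.exists_lift (π f) F hP hM q φ hφ

variable (hqc : ∀ K ∈ S, ToposFin.IsQC K) (hgen : ToposFin.IsGenerating S)

include hpb hqc hgen in
/-- a filtered colimit of Čech-acyclic sheaves is Čech-acyclic -/
lemma cechAcyc_colimit {Λ : Type u} [SmallCategory Λ] [IsFiltered Λ]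
    (D : Λ ⥤ Sheaf J AddCommGrpCat.{u}) (hD : ∀ i, CechAcyc S (D.obj i)) {c : Cocone D}
    (hc : IsColimit c) : CechAcyc S c.pt := by
  have hE := hasQCGenerators_of_isGenerating hqc hgen
  intro K' K f hK hK' hf q
  rw [isZero_homology_succ_iff]
  intro φ hφ
  have hL1 : ToposFin.IsCoherent ((Arrow.mk f).cechNerve.obj (op (SimplexCategory.mk (q + 1)))) :=
    (FinS.cechNerve f hpb hK hK' (q + 1)).isCoherent hqc hgen hpb
  have hL2 : ToposFin.IsCoherent ((Arrow.mk f).cechNerve.obj (op (SimplexCategory.mk (q + 2)))) :=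
    (FinS.cechNerve f hpb hK hK' (q + 2)).isCoherent hqc hgen hpb
  obtain ⟨i, φi, hφi⟩ : ∃ (i : Λ) (φi : (AC f).X (q + 1) ⟶ D.obj i), φi ≫ c.ι.app i = φ :=
    exists_factor_ab D hE hL1 hc φ
  have h0 : ((AC f).d (q + 2) (q + 1) ≫ φi) ≫ c.ι.app i = 0 ≫ c.ι.app i := by
    rw [Category.assoc, hφi, hφ, zero_comp]
  obtain ⟨j, g, hg⟩ : ∃ (j : Λ) (g : i ⟶ j),
      ((AC f).d (q + 2) (q + 1) ≫ φi) ≫ D.map g = (0 : (AC f).X (q + 2) ⟶ D.obj i) ≫ D.map g :=
    exists_map_eq_ab D hL2.1 hc i _ _ h0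
  have hφj : (AC f).d (q + 2) (q + 1) ≫ (φi ≫ D.map g) = 0 := by
    rw [← Category.assoc, hg, zero_comp]
  obtain ⟨ψ, hψ⟩ := (isZero_homology_succ_iff f (D.obj j) q).1 (hD j K' K f hK hK' hf q) _ hφj
  refine ⟨ψ ≫ c.ι.app j, ?_⟩
  rw [← Category.assoc, hψ, Category.assoc, c.w, hφi]

include hpb hqc hgen in
/-- **a filtered colimit of `S`-acyclic abelian sheaves is `S`-acyclic** -/
theorem subsingleton_HK_colimit {Λ : Type u} [SmallCategory Λ] [IsFiltered Λ]
    (D : Λ ⥤ Sheaf J AddCommGrpCat.{u})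
    (hD : ∀ (i : Λ) (K : ToposFin.Sh J), K ∈ S → ∀ q : ℕ,
      Subsingleton (CohCx.HK K (D.obj i) (q + 1)))
    {c : Cocone D} (hc : IsColimit c) (K : ToposFin.Sh J) (hK : K ∈ S) (q : ℕ) :
    Subsingleton (CohCx.HK K c.pt (q + 1)) :=
  subsingleton_HK_succ_rel hqc hgen hpb q c.pt
    (cechAcyc_colimit hpb hqc hgen D
      (fun i => cechAcyc_of_acyclic hpb (D.obj i) (fun K hK q => hD i K hK q)) hc) K hK

end

end Groth.Agent.Lib.Helper74.CohColim
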