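import Mathlib

/-!
# `Ext X -` and filtered colimits: an abstract dimension shifting argument

Let `𝒜` be an abelian category with enough injectives and exact filtered colimits of shape `Λ`,
and `X : 𝒜` such that
* `Hom(X, -)` commutes with colimits of shape `Λ` (`H0s`, `H0i`),
* `Ext^{q+1}(X, colim I) = 0` for every diagram `I : Λ ⥤ 𝒜` of injective objects (`HA`).
Then `Ext^q(X, -)` commutes with colimits of shape `Λ` for all `q`.
-/

set_option autoImplicit false
universe w v u v' u'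
open CategoryTheory CategoryTheory.Limits Opposite

namespace Groth.Agent.Lib.Helper74.CohColim.ExtColim

variable {𝒜 : Type u} [Category.{v} 𝒜] [Abelian 𝒜] [HasExt.{w} 𝒜]

open Abelian

section push

variable {X A B B' : 𝒜} {n : ℕ}

/-- pushforward of `Ext` classes along a morphism in the second variable -/
noncomputable def push (z : Ext.{w} X A n) (a : A ⟶ B) : Ext.{w} X B n :=
  z.comp (Ext.mk₀ a) (add_zero n)

lemma push_push (z : Ext.{w} X A n) (a : A ⟶ B) (b : B ⟶ B') :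
    push (push z a) b = push z (a ≫ b) := by
  simp only [push, Ext.comp_assoc_of_third_deg_zero, Ext.mk₀_comp_mk₀]

lemma push_zero (a : A ⟶ B) : push (0 : Ext.{w} X A n) a = 0 := by
  simp [push]

lemma push_sub (z z' : Ext.{w} X A n) (a : A ⟶ B) :
    push (z - z') a = push z a - push z' a :=
  map_sub ((Ext.mk₀ a).postcomp X (add_zero n)) z z'

lemma push_mk₀ (f : X ⟶ A) (a : A ⟶ B) : push (Ext.mk₀ f) a = Ext.mk₀ (f ≫ a) :=
  Ext.mk₀_comp_mk₀ f a

lemma push_extClass {S₁ S₂ : ShortComplex 𝒜} (h₁ : S₁.ShortExact) (h₂ : S₂.ShortExact)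
    (f : S₁ ⟶ S₂) {m : ℕ} (z : Ext.{w} X S₁.X₃ n) (h : n + 1 = m) :
    push (z.comp h₁.extClass h) f.τ₁ = (push z f.τ₃).comp h₂.extClass h := by
  simp only [push, Ext.comp_assoc_of_third_deg_zero, Ext.comp_assoc_of_second_deg_zero,
    ShortComplex.ShortExact.extClass_naturality h₁ h₂ f]

lemma push_g_extClass {S : ShortComplex 𝒜} (hS : S.ShortExact) {m : ℕ} (z : Ext.{w} X S.X₂ n)
    (h : n + 1 = m) : (push z S.g).comp hS.extClass h = 0 := by
  simp only [push, Ext.comp_assoc_of_second_deg_zero, ShortComplex.ShortExact.comp_extClass,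
    Ext.comp_zero]

end push

section diagram

variable {Λ : Type u'} [Category.{v'} Λ] [EnoughInjectives 𝒜]
  [∀ i : Λ, HasProductsOfShape (Σ j : Λ, (i ⟶ j)) 𝒜] (D : Λ ⥤ 𝒜)

/-- the family of injective objects whose product is the value at `i` of the diagram -/
noncomputable abbrev injFam (i : Λ) : (Σ j : Λ, (i ⟶ j)) → 𝒜 :=
  fun p => Injective.under (D.obj p.1)

lemma π_congr {i j : Λ} {g g' : i ⟶ j} (h : g = g') :
    Pi.π (injFam D i) ⟨j, g⟩ = Pi.π (injFam D i) ⟨j, g'⟩ := by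
  subst h
  rfl

/-- the transition maps of the diagram of injective objects -/
noncomputable def injDiagMap {i i' : Λ} (h : i ⟶ i') : ∏ᶜ injFam D i ⟶ ∏ᶜ injFam D i' :=
  Pi.lift (fun p' : (Σ j : Λ, (i' ⟶ j)) => Pi.π (injFam D i) ⟨p'.1, h ≫ p'.2⟩)

lemma injDiagMap_π {i i' : Λ} (h : i ⟶ i') (j : Λ) (g : i' ⟶ j) :
    injDiagMap D h ≫ Pi.π (injFam D i') ⟨j, g⟩ = Pi.π (injFam D i) ⟨j, h ≫ g⟩ :=
  Pi.lift_π _ _

/-- a diagram of injective objects receiving `D` -/
noncomputable def injDiag : Λ ⥤ 𝒜 where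
  obj i := ∏ᶜ injFam D i
  map {i i'} h := injDiagMap D h
  map_id i := by
    apply Pi.hom_ext
    rintro ⟨j, g⟩
    rw [injDiagMap_π, Category.id_comp, Category.id_comp]
  map_comp {i i' i''} h h' := by
    apply Pi.hom_ext
    rintro ⟨j, g⟩
    rw [Category.assoc, injDiagMap_π, injDiagMap_π, injDiagMap_π]
    exact π_congr D (Category.assoc h h' g)

/-- the components of the monomorphism from `D` to the diagram of injectives -/
noncomputable def injDiagιApp (i : Λ) : D.obj i ⟶ ∏ᶜ injFam D i :=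
  Pi.lift (fun p : (Σ j : Λ, (i ⟶ j)) => D.map p.2 ≫ Injective.ι (D.obj p.1))

lemma injDiagιApp_π (i j : Λ) (g : i ⟶ j) :
    injDiagιApp D i ≫ Pi.π (injFam D i) ⟨j, g⟩ = D.map g ≫ Injective.ι (D.obj j) :=
  Pi.lift_π _ _

/-- the monomorphism from `D` to the diagram of injectives -/
noncomputable def injDiagι : D ⟶ injDiag D where
  app i := injDiagιApp D i
  naturality {i i'} h := by
    apply Pi.hom_ext
    rintro ⟨j, g⟩
    change (D.map h ≫ injDiagιApp D i') ≫ _ = (injDiagιApp D i ≫ injDiagMap D h) ≫ _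
    rw [Category.assoc, Category.assoc, injDiagιApp_π, injDiagMap_π, injDiagιApp_π,
      D.map_comp, Category.assoc]

instance (i : Λ) : Injective ((injDiag D).obj i) :=
  inferInstanceAs (Injective (∏ᶜ injFam D i))

instance (i : Λ) : Mono ((injDiagι D).app i) := by
  have h : injDiagιApp D i ≫ Pi.π (injFam D i) ⟨i, 𝟙 i⟩ = Injective.ι (D.obj i) := by
    rw [injDiagιApp_π, D.map_id, Category.id_comp]
  exact mono_of_mono_fac h

instance : Mono (injDiagι D) := NatTrans.mono_of_mono_app _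

/-- the short exact sequence of diagrams `0 ⟶ D ⟶ I ⟶ Q ⟶ 0` -/
noncomputable def sesD : ShortComplex (Λ ⥤ 𝒜) :=
  ShortComplex.mk (injDiagι D) (cokernel.π (injDiagι D)) (cokernel.condition _)

lemma sesD_shortExact : (sesD D).ShortExact :=
  { exact := ShortComplex.exact_of_g_is_cokernel _ (cokernelIsCokernel _)
    mono_f := inferInstanceAs (Mono (injDiagι D))
    epi_g := inferInstanceAs (Epi (cokernel.π (injDiagι D))) }

/-- the quotient diagram -/
noncomputable abbrev quotDiag : Λ ⥤ 𝒜 := cokernel (injDiagι D)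

/-- the short exact sequence at the stage `i` -/
noncomputable def sesAt (i : Λ) : ShortComplex 𝒜 := (sesD D).map ((evaluation Λ 𝒜).obj i)

lemma sesAt_shortExact (i : Λ) : (sesAt D i).ShortExact :=
  (sesD_shortExact D).map_of_exact ((evaluation Λ 𝒜).obj i)

instance (i : Λ) : Injective (sesAt D i).X₂ := inferInstanceAs (Injective ((injDiag D).obj i))

/-- transition maps between the stages -/
noncomputable def sesAtMap {i l : Λ} (g : i ⟶ l) : sesAt D i ⟶ sesAt D l where
  τ₁ := D.map g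
  τ₂ := (injDiag D).map g
  τ₃ := (quotDiag D).map g
  comm₁₂ := (injDiagι D).naturality g
  comm₂₃ := (cokernel.π (injDiagι D)).naturality g

variable [HasColimitsOfShape Λ 𝒜] [HasExactColimitsOfShape Λ 𝒜]

/-- the short exact sequence of colimits -/
noncomputable def sesColim : ShortComplex 𝒜 := (sesD D).map colim

lemma sesColim_shortExact : (sesColim D).ShortExact :=
  (sesD_shortExact D).map_of_exact colim

/-- the map from a stage to the colimit -/
noncomputable def sesAtToColim (i : Λ) : sesAt D i ⟶ sesColim D where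
  τ₁ := colimit.ι D i
  τ₂ := colimit.ι (injDiag D) i
  τ₃ := colimit.ι (quotDiag D) i
  comm₁₂ := ι_colimMap _ _
  comm₂₃ := ι_colimMap _ _

end diagram

section delta

variable {X : 𝒜} {A B Cc A' B' Cc' : 𝒜} {f : A ⟶ B} {g : B ⟶ Cc} {w : f ≫ g = 0}
  (hS : (ShortComplex.mk f g w).ShortExact)
  {f' : A' ⟶ B'} {g' : B' ⟶ Cc'} {w' : f' ≫ g' = 0}
  (hS' : (ShortComplex.mk f' g' w').ShortExact)

/-- the connecting map of a short exact sequence -/
noncomputable def delta {n : ℕ} (z : Ext.{w} X Cc n) : Ext.{w} X A (n + 1) :=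
  z.comp hS.extClass (rfl : n + 1 = n + 1)

lemma delta_surj {n : ℕ} (x : Ext.{w} X A (n + 1)) (hx : push x f = 0) :
    ∃ z : Ext.{w} X Cc n, delta hS z = x :=
  Ext.covariant_sequence_exact₁ X hS x hx (rfl : n + 1 = n + 1)

lemma delta_ker {n : ℕ} (z : Ext.{w} X Cc n) (hz : delta hS z = 0) :
    ∃ y : Ext.{w} X B n, push y g = z :=
  Ext.covariant_sequence_exact₃ X hS z (rfl : n + 1 = n + 1) hz

lemma delta_push_g {n : ℕ} (y : Ext.{w} X B n) : delta hS (push y g) = 0 :=
  push_g_extClass hS y _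

lemma delta_natural (τ₁ : A ⟶ A') (τ₂ : B ⟶ B') (τ₃ : Cc ⟶ Cc') (c₁₂ : τ₁ ≫ f' = f ≫ τ₂)
    (c₂₃ : τ₂ ≫ g' = g ≫ τ₃) {n : ℕ} (z : Ext.{w} X Cc n) :
    push (delta hS z) τ₁ = delta hS' (push z τ₃) :=
  push_extClass hS hS' (ShortComplex.Hom.mk τ₁ τ₂ τ₃ c₁₂ c₂₃) z _

end delta

section main

variable {Λ : Type u'} [Category.{v'} Λ] [IsFiltered Λ]
  [HasColimitsOfShape Λ 𝒜] (X : 𝒜)

/-- every class in `Ext^q(X, colim D)` comes from a stage -/
def SurjE (q : ℕ) (D : Λ ⥤ 𝒜) : Prop :=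
  ∀ x : Ext.{w} X (colimit D) q, ∃ (i : Λ) (y : Ext.{w} X (D.obj i) q),
    push y (colimit.ι D i) = x

/-- a class in `Ext^q(X, D i)` which dies in the colimit dies at a later stage -/
def InjE (q : ℕ) (D : Λ ⥤ 𝒜) : Prop :=
  ∀ (i : Λ) (y : Ext.{w} X (D.obj i) q), push y (colimit.ι D i) = 0 →
    ∃ (j : Λ) (g : i ⟶ j), push y (D.map g) = 0

/-- the induction step, for a short exact sequence of diagrams `0 ⟶ D ⟶ I ⟶ Q ⟶ 0` which stays
exact after passing to the colimit, with `I` objectwise injective -/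
lemma step {D I Q : Λ ⥤ 𝒜} (f : D ⟶ I) (g : I ⟶ Q)
    (wi : ∀ i, f.app i ≫ g.app i = 0)
    (hi : ∀ i, (ShortComplex.mk (f.app i) (g.app i) (wi i)).ShortExact)
    (wc : colimMap f ≫ colimMap g = 0)
    (hc : (ShortComplex.mk (colimMap f) (colimMap g) wc).ShortExact)
    (hinj : ∀ i, Injective (I.obj i)) (q : ℕ)
    (hsub : Subsingleton (Ext.{w} X (colimit I) (q + 1)))
    (hI : SurjE.{w} X q I) (hQ : SurjE.{w} X q Q ∧ InjE.{w} X q Q) :
    SurjE.{w} X (q + 1) D ∧ InjE.{w} X (q + 1) D := by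
  constructor
  · intro x
    obtain ⟨x₃, hx₃⟩ := delta_surj hc x (Subsingleton.elim _ _)
    obtain ⟨i, y₃, hy₃⟩ := hQ.1 x₃
    refine ⟨i, delta (hi i) y₃, ?_⟩
    rw [delta_natural (hi i) hc (colimit.ι D i) (colimit.ι I i) (colimit.ι Q i)
      (ι_colimMap _ _) (ι_colimMap _ _), hy₃, hx₃]
  · intro i y hy
    have := hinj i
    obtain ⟨z, hz⟩ := delta_surj (hi i) y (Ext.eq_zero_of_injective _)
    have h2 : delta hc (push z (colimit.ι Q i)) = 0 := by
      rw [← delta_natural (hi i) hc (colimit.ι D i) (colimit.ι I i) (colimit.ι Q i)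
        (ι_colimMap _ _) (ι_colimMap _ _), hz, hy]
    obtain ⟨w, hw⟩ := delta_ker hc _ h2
    obtain ⟨j, wj, hwj⟩ := hI w
    obtain ⟨k, a, b, -⟩ : ∃ (k : Λ) (_ : i ⟶ k) (_ : j ⟶ k), True :=
      ⟨IsFiltered.max i j, IsFiltered.leftToMax i j, IsFiltered.rightToMax i j, trivial⟩
    obtain ⟨z', hz'def⟩ : ∃ z' : Ext.{w} X (Q.obj k) q,
        z' = push z (Q.map a) - push (push wj (I.map b)) (g.app k) := ⟨_, rfl⟩
    have e1 : I.map b ≫ g.app k ≫ colimit.ι Q k = colimit.ι I j ≫ colimMap g := by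
      rw [← ι_colimMap, ← Category.assoc, colimit.w]
    have hz' : push z' (colimit.ι Q k) = 0 := by
      rw [hz'def, push_sub, push_push, push_push, push_push, sub_eq_zero, colimit.w, e1,
        ← push_push, hwj]
      exact hw.symm
    obtain ⟨l, c, hc'⟩ := hQ.2 k z' hz'
    refine ⟨l, a ≫ c, ?_⟩
    have e2 : push z (Q.map (a ≫ c)) = push (push wj (I.map (b ≫ c))) (g.app l) := by
      rw [hz'def, push_sub, push_push, push_push, push_push, sub_eq_zero] at hc'
      rw [Functor.map_comp, hc', push_push, Functor.map_comp, Category.assoc, g.naturality]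
    rw [← hz, delta_natural (hi i) (hi l) (D.map (a ≫ c)) (I.map (a ≫ c)) (Q.map (a ≫ c))
      (f.naturality _) (g.naturality _), e2]
    exact delta_push_g (hi l) _

variable [EnoughInjectives 𝒜] [∀ i : Λ, HasProductsOfShape (Σ j : Λ, (i ⟶ j)) 𝒜]
  [HasExactColimitsOfShape Λ 𝒜]

variable
  (H0s : ∀ (D : Λ ⥤ 𝒜) (φ : X ⟶ colimit D), ∃ (i : Λ) (t : X ⟶ D.obj i), t ≫ colimit.ι D i = φ)
  (H0i : ∀ (D : Λ ⥤ 𝒜) (i : Λ) (f₁ f₂ : X ⟶ D.obj i),
    f₁ ≫ colimit.ι D i = f₂ ≫ colimit.ι D i → ∃ (j : Λ) (g : i ⟶ j), f₁ ≫ D.map g = f₂ ≫ D.map g)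
  (HA : ∀ (D : Λ ⥤ 𝒜), (∀ i, Injective (D.obj i)) → ∀ q : ℕ,
    Subsingleton (Ext.{w} X (colimit D) (q + 1)))

include H0s H0i in
omit [EnoughInjectives 𝒜] [∀ i : Λ, HasProductsOfShape (Σ j : Λ, (i ⟶ j)) 𝒜]
  [HasExactColimitsOfShape Λ 𝒜] in
lemma surjE_injE_zero (D : Λ ⥤ 𝒜) : SurjE.{w} X 0 D ∧ InjE.{w} X 0 D := by
  constructor
  · intro x
    obtain ⟨φ, rfl⟩ := (Ext.mk₀_bijective X _).2 x
    obtain ⟨i, t, ht⟩ := H0s D φ
    exact ⟨i, Ext.mk₀ t, by rw [push_mk₀, ht]⟩
  · intro i y hy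
    obtain ⟨f, rfl⟩ := (Ext.mk₀_bijective _ _).2 y
    rw [push_mk₀] at hy
    have h1 : f ≫ colimit.ι D i = 0 :=
      (Ext.mk₀_bijective _ _).1 (hy.trans (Ext.mk₀_zero (X := X) (Y := colimit D)).symm)
    obtain ⟨j, g, hg⟩ := H0i D i f 0 (by rw [h1, zero_comp])
    exact ⟨j, g, by rw [push_mk₀, hg, zero_comp, Ext.mk₀_zero]⟩

include H0s H0i HA in
theorem surjE_injE (q : ℕ) : ∀ D : Λ ⥤ 𝒜, SurjE.{w} X q D ∧ InjE.{w} X q D := by
  induction q with
  | zero => exact surjE_injE_zero X H0s H0i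
  | succ q ih =>
    intro D
    have wi : ∀ i, (injDiagι D).app i ≫ (cokernel.π (injDiagι D)).app i = 0 := fun i =>
      (sesAt D i).zero
    have wc : colimMap (injDiagι D) ≫ colimMap (cokernel.π (injDiagι D)) = 0 :=
      (sesColim D).zero
    exact step X (injDiagι D) (cokernel.π (injDiagι D)) wi (fun i => sesAt_shortExact D i) wc
      (sesColim_shortExact D) (fun i => inferInstance) q
      (HA (injDiag D) (fun i => inferInstance) q) (ih (injDiag D)).1 (ih (quotDiag D))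

end main

section preserves

variable {Λ : Type w} [SmallCategory Λ] [IsFiltered Λ] [HasColimitsOfShape Λ 𝒜] (X : 𝒜)

lemma extFunctor_map_apply {A B : 𝒜} (q : ℕ) (a : A ⟶ B) (y : Ext.{w} X A q) :
    (((extFunctor.{w} q).obj (op X)).map a) y = push y a := rfl

/-- if `Ext^q(X, -)` satisfies `SurjE` and `InjE` for `D`, it preserves the colimit of `D` -/
theorem preservesColimit_extFunctor (q : ℕ) (D : Λ ⥤ 𝒜)
    (h : SurjE.{w} X q D ∧ InjE.{w} X q D) :
    PreservesColimit D ((extFunctor.{w} q).obj (op X)) := by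
  have key : ∀ (i : Λ) (y : Ext.{w} X (D.obj i) q),
      (colimit.post D ((extFunctor.{w} q).obj (op X)))
        (colimit.ι (D ⋙ (extFunctor.{w} q).obj (op X)) i y) = push y (colimit.ι D i) := by
    intro i y
    have := ConcreteCategory.congr_hom (colimit.ι_post D ((extFunctor.{w} q).obj (op X)) i) y
    rw [ConcreteCategory.comp_apply] at this
    exact this
  have : IsIso (colimit.post D ((extFunctor.{w} q).obj (op X))) := by
    rw [ConcreteCategory.isIso_iff_bijective]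
    constructor
    · rw [injective_iff_map_eq_zero]
      intro a ha
      obtain ⟨i, y, rfl⟩ := Concrete.colimit_exists_rep (D ⋙ (extFunctor.{w} q).obj (op X)) a
      have hy : push (show Ext.{w} X (D.obj i) q from y) (colimit.ι D i) = 0 :=
        (key i y).symm.trans ha
      obtain ⟨j, g, hg⟩ := h.2 i y hy
      have h1 : colimit.ι (D ⋙ (extFunctor.{w} q).obj (op X)) i y =
          colimit.ι (D ⋙ (extFunctor.{w} q).obj (op X)) j
            (((extFunctor.{w} q).obj (op X)).map (D.map g) y) := by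
        have := ConcreteCategory.congr_hom
          (colimit.w (D ⋙ (extFunctor.{w} q).obj (op X)) g) y
        rw [ConcreteCategory.comp_apply] at this
        exact this.symm
      rw [h1, extFunctor_map_apply, hg]
      exact map_zero _
    · intro x
      obtain ⟨i, y, hy⟩ := h.1 x
      exact ⟨colimit.ι (D ⋙ (extFunctor.{w} q).obj (op X)) i y, (key i y).trans hy⟩
  exact preservesColimit_of_isIso_post _ _

end preserves

end Groth.Agent.Lib.Helper74.CohColim.ExtColim
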