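import Groth.Prelude.Def_ToposFin2
import Groth.Agent.Lib.Helper28.ToposFin4
import Groth.Agent.Lib.Helper28.ToposFin7
import Mathlib

/-!
# Finite coproducts of members of a set of objects of a sheaf topos

`FinS S L`: the object `L` is a finite coproduct of members of `S`.  If `S` is stable under fibre
products, then fibre products `A ×_K B` with `A`, `B` finite coproducts of members of `S` and
`K ∈ S` are again such, and so are the terms of the Čech nerve of `K' ⟶ K`.
-/

set_option autoImplicit false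
universe u
open CategoryTheory CategoryTheory.Limits Opposite

namespace Groth.Agent.Lib.Helper74.CohColim

open Groth.Agent.Lib.Helper28

variable {C : Type u} [SmallCategory C] {J : GrothendieckTopology C}

/-- `L` is a finite coproduct of members of `S` -/
def FinS (S : Set (ToposFin.Sh J)) (L : ToposFin.Sh J) : Prop :=
  ∃ (κ : Type u) (_ : Finite κ) (Y : κ → ToposFin.Sh J) (inj : ∀ k, Y k ⟶ L),
    (∀ k, Y k ∈ S) ∧ Nonempty (IsColimit (Cofan.mk L inj))

variable {S : Set (ToposFin.Sh J)}

lemma FinS.of_iso {L L' : ToposFin.Sh J} (h : FinS S L) (e : L ≅ L') : FinS S L' := by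
  obtain ⟨κ, hκ, Y, inj, hY, ⟨hc⟩⟩ := h
  refine ⟨κ, hκ, Y, fun k => inj k ≫ e.hom, hY, ⟨?_⟩⟩
  exact IsColimit.ofIsoColimit hc (Cofan.ext e (fun k => rfl))

lemma FinS.of_mem {K : ToposFin.Sh J} (hK : K ∈ S) : FinS S K := by
  refine ⟨PUnit.{u + 1}, inferInstance, fun _ => K, fun _ => 𝟙 K, fun _ => hK, ⟨?_⟩⟩
  refine Cofan.IsColimit.mk _ (fun t => t.inj PUnit.unit) (fun t j => ?_) (fun t m hm => ?_)
  · cases j
    exact Category.id_comp _
  · have := hm PUnit.unit
    simpa using this

/-- fibre products over a member of `S` of finite coproducts of members of `S` -/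
lemma FinS.of_isPullback (hpb : ToposFin.ClosedUnderPullbacks S) {A B K P : ToposFin.Sh J}
    (hK : K ∈ S) (hA : FinS S A) (hB : FinS S B) {a : A ⟶ K} {b : B ⟶ K} {p : P ⟶ A}
    {q : P ⟶ B} (h : IsPullback p q a b) : FinS S P := by
  obtain ⟨α, hα, A', iA, hA', ⟨hcA⟩⟩ := hA
  obtain ⟨β, hβ, B', iB, hB', ⟨hcB⟩⟩ := hB
  choose Q px qy hQ hsq using fun (x : α) (y : β) =>
    hpb (iA x ≫ a) (iB y ≫ b) (hA' x) (hB' y) hK
  -- first decomposition
  let R : α → ToposFin.Sh J := fun x => pullback (iA x ≫ a) b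
  let r1 : ∀ x, R x ⟶ A' x := fun x => pullback.fst (iA x ≫ a) b
  let r2 : ∀ x, R x ⟶ B := fun x => pullback.snd (iA x ≫ a) b
  have hr : ∀ x, IsPullback (r1 x) (r2 x) (iA x ≫ a) b := fun x => IsPullback.of_hasPullback _ _
  let uu : ∀ x, R x ⟶ P := fun x => h.lift (r1 x ≫ iA x) (r2 x) (by
    rw [Category.assoc]; exact (hr x).w)
  have hu1 : ∀ x, uu x ≫ p = r1 x ≫ iA x := fun x => h.lift_fst _ _ _
  have hu2 : ∀ x, uu x ≫ q = r2 x := fun x => h.lift_snd _ _ _
  have hsqR : ∀ x, IsPullback (uu x) (r1 x) p (iA x) := by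
    intro x
    refine IsPullback.of_right ?_ (hu1 x) h.flip
    rw [hu2]
    exact (hr x).flip
  obtain ⟨hR⟩ := cofan_universal (Cofan.mk A iA) hcA (Cofan.mk P uu) r1 p hsqR
  -- second decomposition
  let vv : ∀ x y, Q x y ⟶ R x := fun x y =>
    pullback.lift (px x y) (qy x y ≫ iB y) (by
      rw [Category.assoc]; exact (hsq x y).w)
  have hv1 : ∀ x y, vv x y ≫ r1 x = px x y := fun x y => pullback.lift_fst _ _ _
  have hv2 : ∀ x y, vv x y ≫ r2 x = qy x y ≫ iB y := fun x y => pullback.lift_snd _ _ _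
  have hsqQ : ∀ x y, IsPullback (vv x y) (qy x y) (r2 x) (iB y) := by
    intro x y
    refine IsPullback.of_right ?_ (hv2 x y) (hr x)
    rw [hv1]
    exact hsq x y
  have hQc : ∀ x, Nonempty (IsColimit (Cofan.mk (R x) (vv x))) := fun x =>
    cofan_universal (Cofan.mk B iB) hcB (Cofan.mk (R x) (vv x)) (qy x) (r2 x) (hsqQ x)
  have hfin : Finite (Σ _ : α, β) := inferInstance
  refine ⟨Σ _ : α, β, hfin, fun z => Q z.1 z.2, fun z => vv z.1 z.2 ≫ uu z.1,
    fun z => hQ z.1 z.2, ⟨?_⟩⟩
  exact Cofan.isColimitTrans (Cofan.mk P uu) hR (fun x y => vv x y) (fun x => (hQc x).some)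

section Wide

variable {K' K : ToposFin.Sh J} (f : K' ⟶ K)

/-- the `n`-fold fibre power of `K'` over `K` -/
noncomputable abbrev Wn (n : ℕ) : ToposFin.Sh J :=
  widePullback K (fun _ : Fin n => K') (fun _ => f)

/-- forgetting the last factor -/
noncomputable def Wr (n : ℕ) : Wn f (n + 1) ⟶ Wn f n :=
  WidePullback.lift (WidePullback.base _) (fun a => WidePullback.π _ (Fin.castSucc a))
    (fun a => WidePullback.π_arrow _ _)

lemma Wr_π (n : ℕ) (a : Fin n) :
    Wr f n ≫ WidePullback.π (fun _ => f) a = WidePullback.π (fun _ => f) (Fin.castSucc a) :=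
  WidePullback.lift_π _ _ _ _ _

lemma Wr_base (n : ℕ) : Wr f n ≫ WidePullback.base (fun _ => f) = WidePullback.base (fun _ => f) :=
  WidePullback.lift_base _ _ _ _

lemma isPullback_Wr (n : ℕ) :
    IsPullback (Wr f n) (WidePullback.π (fun _ : Fin (n + 1) => f) (Fin.last n))
      (WidePullback.base (fun _ : Fin n => f)) f := by
  have w : Wr f n ≫ WidePullback.base (fun _ : Fin n => f) =
      WidePullback.π (fun _ : Fin (n + 1) => f) (Fin.last n) ≫ f := by
    rw [Wr_base, WidePullback.π_arrow]
  have key : ∀ (s : PullbackCone (WidePullback.base (fun _ : Fin n => f)) f) (a : Fin (n + 1)),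
      (Fin.lastCases (motive := fun _ => s.pt ⟶ K') s.snd
        (fun a' => s.fst ≫ WidePullback.π (fun _ : Fin n => f) a') a) ≫ f =
        s.fst ≫ WidePullback.base (fun _ : Fin n => f) := by
    intro s a
    induction a using Fin.lastCases with
    | last => rw [Fin.lastCases_last]; exact s.condition.symm
    | cast a' => rw [Fin.lastCases_castSucc, Category.assoc, WidePullback.π_arrow]
  refine ⟨⟨w⟩, ⟨PullbackCone.IsLimit.mk w
    (fun s => WidePullback.lift (s.fst ≫ WidePullback.base (fun _ : Fin n => f))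
      (fun a => Fin.lastCases (motive := fun _ => s.pt ⟶ K') s.snd
        (fun a' => s.fst ≫ WidePullback.π (fun _ : Fin n => f) a') a) (key s)) ?_ ?_ ?_⟩⟩
  · intro s
    apply WidePullback.hom_ext
    · intro a
      rw [Category.assoc, Wr_π, WidePullback.lift_π, Fin.lastCases_castSucc]
    · rw [Category.assoc, Wr_base, WidePullback.lift_base]
  · intro s
    rw [WidePullback.lift_π, Fin.lastCases_last]
  · intro s m hm1 hm2
    apply WidePullback.hom_ext
    · intro a
      rw [WidePullback.lift_π]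
      induction a using Fin.lastCases with
      | last => rw [Fin.lastCases_last]; exact hm2
      | cast a' => rw [Fin.lastCases_castSucc, ← hm1, Category.assoc, Wr_π]
    · rw [WidePullback.lift_base, ← hm1, Category.assoc, Wr_base]

/-- the empty fibre power is the base -/
noncomputable def WzeroIso : Wn f 0 ≅ K where
  hom := WidePullback.base _
  inv := WidePullback.lift (𝟙 K) (fun a => a.elim0) (fun a => a.elim0)
  hom_inv_id := by
    apply WidePullback.hom_ext
    · intro a
      exact a.elim0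
    · rw [Category.assoc, WidePullback.lift_base, Category.comp_id, Category.id_comp]
  inv_hom_id := WidePullback.lift_base _ _ _ _

/-- the fibre powers over a member of `S` of a finite coproduct of members of `S` -/
lemma FinS.Wn (hpb : ToposFin.ClosedUnderPullbacks S) (hK : K ∈ S) (hK' : FinS S K') (n : ℕ) :
    FinS S (Wn f n) := by
  induction n with
  | zero => exact (FinS.of_mem hK).of_iso (WzeroIso f).symm
  | succ n ih => exact FinS.of_isPullback hpb hK ih hK' (isPullback_Wr f n)

/-- the terms of the Čech nerve -/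
lemma FinS.cechNerve (hpb : ToposFin.ClosedUnderPullbacks S) (hK : K ∈ S) (hK' : FinS S K')
    (n : ℕ) : FinS S ((Arrow.mk f).cechNerve.obj (op (SimplexCategory.mk n))) :=
  FinS.Wn f hpb hK hK' (n + 1)

end Wide

end Groth.Agent.Lib.Helper74.CohColim
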