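import Groth.Agent.Lib.Helper74.CohColim.FinS
import Groth.Agent.Lib.Helper5.CechNerveHom
import Mathlib

/-!
# Finite coproducts of members of `S`: coherence, refinement of covers, vanishing of `Ext`
-/

set_option autoImplicit false
universe w v u
open CategoryTheory CategoryTheory.Limits Opposite

namespace Groth.Agent.Lib.Helper74.CohColim

open Groth.Agent.Lib.Helper28 Groth.Agent.Lib.Helper5.CechNerve

section abelian

variable {𝒜 : Type u} [Category.{v} 𝒜] [Abelian 𝒜] [HasExt.{w} 𝒜]

open Abelian in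
/-- `Ext` out of a finite coproduct vanishes if it vanishes on the summands -/
lemma subsingleton_ext_of_cofan {κ : Type*} [Finite κ] {X : κ → 𝒜} (c : Cofan X)
    (hc : IsColimit c) (F : 𝒜) (n : ℕ) (h : ∀ k, Subsingleton (Ext.{w} (X k) F n)) :
    Subsingleton (Ext.{w} c.pt F n) := by
  classical
  have := Fintype.ofFinite κ
  have hb := biconeIsBilimitOfColimitCoconeOfIsColimit hc
  exact (Ext.biproductAddEquiv hb F n).toEquiv.subsingleton

end abelian

variable {C : Type u} [SmallCategory C] {J : GrothendieckTopology C}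
variable {S : Set (ToposFin.Sh J)}

lemma FinS.isCoherent (hqc : ∀ K ∈ S, ToposFin.IsQC K) (hgen : ToposFin.IsGenerating S)
    (hpb : ToposFin.ClosedUnderPullbacks S) {L : ToposFin.Sh J} (h : FinS S L) :
    ToposFin.IsCoherent L := by
  obtain ⟨κ, hκ, Y, inj, hY, ⟨hc⟩⟩ := h
  exact ⟨isQC_of_isColimit_cofan (Cofan.mk L inj) hc
      (fun k => (isCoherent_of_mem hqc hgen hpb (hY k)).1),
    isQS_of_isColimit_cofan (Cofan.mk L inj) hc
      (fun k => (isCoherent_of_mem hqc hgen hpb (hY k)).2)⟩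

/-- an epimorphism onto a quasi-compact object is refined by a finite coproduct of members
of `S` -/
lemma FinS.exists_refine (hgen : ToposFin.IsGenerating S) {K T : ToposFin.Sh J}
    (hK : ToposFin.IsQC K) (p : T ⟶ K) [Epi p] :
    ∃ (K' : ToposFin.Sh J) (k : K' ⟶ T), FinS S K' ∧ Epi (k ≫ p) := by
  obtain ⟨ι, F, π, hF, hπ⟩ := hgen T
  have hπ' : JointlyEpi π := hπ
  have h1 : JointlyEpi (fun i => π i ≫ p) := hπ'.comp_epi p
  obtain ⟨s, hs⟩ := (isQC_iff K).mp hK ι F _ h1
  refine ⟨∐ (fun i : s => F i), Sigma.desc (fun i : s => π i),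
    ⟨s, inferInstance, fun i => F i, Sigma.ι (fun i : s => F i), fun i => hF i,
      ⟨coproductIsCoproduct _⟩⟩, ?_⟩
  have h2 : Sigma.desc (fun i : s => π i) ≫ p = Sigma.desc (fun i : s => π i ≫ p) := by
    ext i
    simp
  rw [h2]
  exact (epi_sigmaDesc_iff _).mpr hs

/-- vanishing of the cohomology with respect to a finite coproduct of members of `S` -/
lemma FinS.subsingleton_HK {L : ToposFin.Sh J} (h : FinS S L) (F : Sheaf J AddCommGrpCat.{u})
    (n : ℕ) (hF : ∀ M ∈ S, Subsingleton (CohCx.HK M F n)) : Subsingleton (CohCx.HK L F n) := by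
  obtain ⟨κ, hκ, Y, inj, hY, ⟨hc⟩⟩ := h
  have hp : PreservesColimitsOfSize.{0, u} (Zf J) := (adjZ J).leftAdjoint_preservesColimits
  have hc' : IsColimit (Cofan.mk ((Zf J).obj L) (fun k => (Zf J).map (inj k))) :=
    isColimitCofanMkObjOfIsColimit (Zf J) Y inj hc
  exact subsingleton_ext_of_cofan.{u} _ hc' F n (fun k => hF (Y k) (hY k))

end Groth.Agent.Lib.Helper74.CohColim
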