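import Groth.Agent.Lib.Helper74.CohColim.Acyclic
import Groth.Agent.Lib.Helper74.CohColim.ExtColim
import Mathlib

/-!
# `H^q(K, -)` commutes with filtered colimits for `K` coherent in an algebraic topos
-/

set_option autoImplicit false
universe u
open CategoryTheory CategoryTheory.Limits Opposite

namespace Groth.Agent.Lib.Helper74.CohColim

open Groth.Agent.Lib.Helper28 Groth.Agent.Lib.Helper5 Groth.Agent.Lib.Helper5.CechNerve

variable {C : Type u} [SmallCategory C] {J : GrothendieckTopology C}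

/-- the set of coherent objects -/
def cohSet (J : GrothendieckTopology C) : Set (ToposFin.Sh J) := {K | ToposFin.IsCoherent K}

lemma cohSet_isQC : ∀ K ∈ cohSet J, ToposFin.IsQC K := fun _ hK => hK.1

lemma cohSet_isGenerating (hE : ToposFin.IsAlgebraic J) : ToposFin.IsGenerating (cohSet J) := by
  obtain ⟨S, hqc, hgen, hpb, -⟩ := hE
  intro X
  obtain ⟨ι, F, π, hF, hπ⟩ := hgen X
  exact ⟨ι, F, π, fun i => isCoherent_of_mem hqc hgen hpb (hF i), hπ⟩

lemma cohSet_closedUnderPullbacks (hE : ToposFin.IsAlgebraic J) :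
    ToposFin.ClosedUnderPullbacks (cohSet J) := by
  obtain ⟨S, hqc, hgen, hpb, heq⟩ := hE
  intro A B M f g hA hB hM
  refine ⟨pullback f g, pullback.fst f g, pullback.snd f g, ⟨?_, ?_⟩, IsPullback.of_hasPullback f g⟩
  · exact hM.2 A B f g hA.1 hB.1
  · have h1 : ToposFin.IsQSHom f := isQSHom_of_isQS hqc hgen heq f hA.2
    have h2 : ToposFin.IsQSHom (pullback.snd f g) :=
      isQSHom_of_isPullback (IsPullback.of_hasPullback f g) h1
    exact isQS_of_isQSHom h2 hB.2

section

variable (hE : ToposFin.IsAlgebraic J) {Λ : Type u} [SmallCategory Λ] [IsFiltered Λ]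

include hE in
lemma H0s_of_isCoherent {K : ToposFin.Sh J} (hK : ToposFin.IsCoherent K)
    (D : Λ ⥤ Sheaf J AddCommGrpCat.{u}) (φ : (Zf J).obj K ⟶ colimit D) :
    ∃ (i : Λ) (t : (Zf J).obj K ⟶ D.obj i), t ≫ colimit.ι D i = φ :=
  exists_factor_ab D (hasQCGenerators_of_isGenerating cohSet_isQC (cohSet_isGenerating hE)) hK
    (colimit.isColimit D) φ

lemma H0i_of_isQC {K : ToposFin.Sh J} (hK : ToposFin.IsQC K)
    (D : Λ ⥤ Sheaf J AddCommGrpCat.{u}) (i : Λ) (f₁ f₂ : (Zf J).obj K ⟶ D.obj i)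
    (h : f₁ ≫ colimit.ι D i = f₂ ≫ colimit.ι D i) :
    ∃ (j : Λ) (g : i ⟶ j), f₁ ≫ D.map g = f₂ ≫ D.map g :=
  exists_map_eq_ab D hK (colimit.isColimit D) i f₁ f₂ h

include hE in
lemma HA_of_isCoherent {K : ToposFin.Sh J} (hK : ToposFin.IsCoherent K)
    (D : Λ ⥤ Sheaf J AddCommGrpCat.{u}) (hD : ∀ i, Injective (D.obj i)) (q : ℕ) :
    Subsingleton (Abelian.Ext.{u} ((Zf J).obj K) (colimit D) (q + 1)) :=
  subsingleton_HK_colimit (cohSet_closedUnderPullbacks hE) cohSet_isQC (cohSet_isGenerating hE) D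
    (fun i M _ p => by
      have := hD i
      exact subsingleton_of_forall_eq 0 (fun x => Abelian.Ext.eq_zero_of_injective x))
    (colimit.isColimit D) K hK q

include hE in
/-- **`H^q(K, -)` commutes with filtered colimits for `K` coherent** -/
theorem preservesColimitsOfShape_HK {K : ToposFin.Sh J} (hK : ToposFin.IsCoherent K) (q : ℕ) :
    PreservesColimitsOfShape Λ ((Abelian.extFunctor.{u} q).obj (op ((Zf J).obj K))) := by
  have : HasExactColimitsOfShape Λ (Sheaf J AddCommGrpCat.{u}) := inferInstance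
  constructor
  intro D
  exact ExtColim.preservesColimit_extFunctor _ q D
    (ExtColim.surjE_injE _ (H0s_of_isCoherent hE hK) (H0i_of_isQC hK.1)
      (HA_of_isCoherent hE hK) q D)

end

end Groth.Agent.Lib.Helper74.CohColim
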