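import Groth.Agent.Lib.Helper74.CohColim.ExtColim
import Groth.Agent.Lib.Helper83.DerivedLES

/-!
# Right derived functors and filtered colimits (helper74)

* `isColimit_of_cokernel`: a purely categorical lemma: if `DA ⟶ DB ⟶ DC` are diagrams with `DB i ⟶ DC i`
  epi and composite zero, `A = colim DA`, `B = colim DB`, and `B ⟶ Cpt` is a cokernel of `A ⟶ B`,
  then `Cpt = colim DC`.
* `preservesColimit_rightDerived`: if `R⁰T` preserves `Λ`-colimits and `R^{q+1}T (colim I) = 0` for
  every diagram `I` of injectives, then every `R^q T` preserves `Λ`-colimits (when `Λ`-colimits are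
  exact in the source).
-/

set_option autoImplicit false
universe w v u v' u' v'' u''

open CategoryTheory CategoryTheory.Limits Opposite

namespace Groth.Agent.Lib.Helper74.CohColim.RDerColim

section cokernel

variable {Λ : Type u'} [Category.{v'} Λ] {ℬ : Type u''} [Category.{v''} ℬ] [HasZeroMorphisms ℬ]

/-- cokernels of colimits are colimits of cokernels, in the form needed below -/
noncomputable def isColimit_of_cokernel {DA DB DC : Λ ⥤ ℬ} (a : DA ⟶ DB) (b : DB ⟶ DC)
    (cA : Cocone DA) (cB : Cocone DB) (cC : Cocone DC) (f : cA.pt ⟶ cB.pt) (g : cB.pt ⟶ cC.pt)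
    (hf : ∀ i, cA.ι.app i ≫ f = a.app i ≫ cB.ι.app i)
    (hg : ∀ i, cB.ι.app i ≫ g = b.app i ≫ cC.ι.app i)
    (hA : IsColimit cA) (hB : IsColimit cB)
    (hzero : ∀ i, a.app i ≫ b.app i = 0) (hepi : ∀ i, Epi (b.app i))
    (w : f ≫ g = 0) (hcok : IsColimit (CokernelCofork.ofπ g w)) : IsColimit cC := by
  have hepig : Epi g := epi_of_isColimit_cofork hcok
  -- the map out of `B`
  let sB : ∀ s : Cocone DC, Cocone DB := fun s =>
    { pt := s.pt
      ι := { app := fun i => b.app i ≫ s.ι.app i
             naturality := fun i j φ => by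
               dsimp
               rw [Category.comp_id, ← Category.assoc, b.naturality, Category.assoc, s.w] } }
  have hφ : ∀ s : Cocone DC, f ≫ hB.desc (sB s) = 0 := fun s => by
    apply hA.hom_ext
    intro i
    rw [← Category.assoc, hf, Category.assoc, hB.fac, comp_zero]
    change a.app i ≫ b.app i ≫ s.ι.app i = 0
    rw [← Category.assoc, hzero, zero_comp]
  exact
    { desc := fun s => hcok.desc (CokernelCofork.ofπ (hB.desc (sB s)) (hφ s))
      fac := fun s i => by
        have := hepi i
        rw [← cancel_epi (b.app i), ← Category.assoc, ← hg, Category.assoc]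
        have h1 : g ≫ hcok.desc (CokernelCofork.ofπ (hB.desc (sB s)) (hφ s)) = hB.desc (sB s) :=
          hcok.fac (CokernelCofork.ofπ (hB.desc (sB s)) (hφ s)) WalkingParallelPair.one
        rw [h1, hB.fac]
      uniq := fun s m hm => by
        rw [← cancel_epi g]
        have h1 : g ≫ hcok.desc (CokernelCofork.ofπ (hB.desc (sB s)) (hφ s)) = hB.desc (sB s) :=
          hcok.fac (CokernelCofork.ofπ (hB.desc (sB s)) (hφ s)) WalkingParallelPair.one
        rw [h1]
        apply hB.hom_ext
        intro i
        rw [hB.fac, ← Category.assoc, hg, Category.assoc, hm] }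

end cokernel

section main

open ExtColim Groth.Agent.Lib.Helper83

variable {𝒜 : Type u} [Category.{v} 𝒜] [Abelian 𝒜] [HasExt.{w} 𝒜] [EnoughInjectives 𝒜]
  {ℬ : Type u''} [Category.{v''} ℬ] [Abelian ℬ] (T : 𝒜 ⥤ ℬ) [T.Additive]
  {Λ : Type u'} [Category.{v'} Λ] [∀ i : Λ, HasProductsOfShape (Σ j : Λ, (i ⟶ j)) 𝒜]
  [HasColimitsOfShape Λ 𝒜] [HasExactColimitsOfShape Λ 𝒜]

/-- the inductive step -/
lemma step (q : ℕ) (D : Λ ⥤ 𝒜)
    (hI : PreservesColimit (injDiag D) (T.rightDerived q))
    (hQ : PreservesColimit (quotDiag D) (T.rightDerived q))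
    (HA : IsZero ((T.rightDerived (q + 1)).obj (colimit (injDiag D)))) :
    PreservesColimit D (T.rightDerived (q + 1)) := by
  let Δ := derivedLES T
  apply preservesColimit_of_preserves_colimit_cocone (colimit.isColimit D)
  -- the natural transformations
  let a : injDiag D ⋙ T.rightDerived q ⟶ quotDiag D ⋙ T.rightDerived q :=
    Functor.whiskerRight (cokernel.π (injDiagι D)) (T.rightDerived q)
  let b : quotDiag D ⋙ T.rightDerived q ⟶ D ⋙ T.rightDerived (q + 1) :=
    { app := fun i => Δ.δ (sesAt D i) (sesAt_shortExact D i) q (q + 1) rfl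
      naturality := fun i j φ =>
        Δ.δ_natural (sesAt_shortExact D i) (sesAt_shortExact D j) (sesAtMap D φ) q (q + 1) rfl }
  let f : (T.rightDerived q).obj (colimit (injDiag D)) ⟶
      (T.rightDerived q).obj (colimit (quotDiag D)) := (T.rightDerived q).map (sesColim D).g
  let g : (T.rightDerived q).obj (colimit (quotDiag D)) ⟶
      (T.rightDerived (q + 1)).obj (colimit D) :=
    Δ.δ (sesColim D) (sesColim_shortExact D) q (q + 1) rfl
  have w : f ≫ g = 0 := Δ.comp_δ (sesColim D) (sesColim_shortExact D) q (q + 1) rfl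
  have hepig : Epi g := by
    have h1 := Δ.exact₁ (sesColim D) (sesColim_shortExact D) q (q + 1) rfl
    exact h1.epi_f (HA.eq_of_tgt _ _)
  have hcok : IsColimit (CokernelCofork.ofπ g w) :=
    @ShortComplex.Exact.gIsCokernel _ _ _ _ _
      (Δ.exact₃ (sesColim D) (sesColim_shortExact D) q (q + 1) rfl) hepig
  refine isColimit_of_cokernel a b ((T.rightDerived q).mapCocone (colimit.cocone (injDiag D)))
    ((T.rightDerived q).mapCocone (colimit.cocone (quotDiag D)))
    ((T.rightDerived (q + 1)).mapCocone (colimit.cocone D)) f g ?_ ?_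
    (isColimitOfPreserves _ (colimit.isColimit _)) (isColimitOfPreserves _ (colimit.isColimit _))
    ?_ ?_ w hcok
  · intro i
    change (T.rightDerived q).map (colimit.ι (injDiag D) i) ≫ (T.rightDerived q).map (sesColim D).g =
      (T.rightDerived q).map ((cokernel.π (injDiagι D)).app i) ≫
        (T.rightDerived q).map (colimit.ι (quotDiag D) i)
    rw [← Functor.map_comp, ← Functor.map_comp]
    congr 1
    exact (sesAtToColim D i).comm₂₃
  · intro i
    exact Δ.δ_natural (sesAt_shortExact D i) (sesColim_shortExact D) (sesAtToColim D i) q (q + 1) rfl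
  · intro i
    exact Δ.comp_δ (sesAt D i) (sesAt_shortExact D i) q (q + 1) rfl
  · intro i
    have h1 := Δ.exact₁ (sesAt D i) (sesAt_shortExact D i) q (q + 1) rfl
    have h2 : IsZero ((T.rightDerived (q + 1)).obj (sesAt D i).X₂) :=
      Functor.isZero_rightDerived_obj_injective_succ T q _
    exact h1.epi_f (h2.eq_of_tgt _ _)

/-- **Right derived functors commute with exact colimits of shape `Λ`**, provided `R⁰T` does and the
colimits of diagrams of injectives are acyclic. -/
theorem preservesColimit_rightDerived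
    (H0 : PreservesColimitsOfShape Λ (T.rightDerived 0))
    (HA : ∀ (I : Λ ⥤ 𝒜), (∀ i, Injective (I.obj i)) → ∀ q : ℕ,
      IsZero ((T.rightDerived (q + 1)).obj (colimit I))) (q : ℕ) :
    ∀ D : Λ ⥤ 𝒜, PreservesColimit D (T.rightDerived q) := by
  induction q with
  | zero => intro D; infer_instance
  | succ q ih =>
    intro D
    exact step T q D (ih _) (ih _) (HA (injDiag D) (fun i => inferInstance) q)

end main

end Groth.Agent.Lib.Helper74.CohColim.RDerColim
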