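import Groth.Agent.Lib.Helper74.CohColim.FinSExt
import Mathlib

/-!
# A relative Cartan criterion in a sheaf topos

Let `S` be a generating set of quasi-compact objects stable under fibre products.  If the Čech
cohomology of an abelian sheaf `F` vanishes in positive degrees for all epimorphisms `K' ⟶ K` with
`K ∈ S` and `K'` a finite coproduct of members of `S`, then `H^q(K, F) = 0` for `K ∈ S`, `q > 0`.
(Adapted from `Groth.Agent.Lib.Helper5.CechNerveHom`, which treats all epimorphisms.)
-/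

set_option autoImplicit false
universe u
open CategoryTheory CategoryTheory.Limits Opposite

namespace Groth.Agent.Lib.Helper74.CohColim

open Groth.Agent.Lib.Helper28 Groth.Agent.Lib.Helper5 Groth.Agent.Lib.Helper5.CechNerve

variable {C : Type u} [SmallCategory C] {J : GrothendieckTopology C}

variable (S : Set (ToposFin.Sh J)) in
/-- Čech-acyclicity with respect to the epimorphisms `K' ⟶ K`, with `K ∈ S` and `K'` a finite
coproduct of members of `S` -/
def CechAcyc (F : Sheaf J AddCommGrpCat.{u}) : Prop :=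
  ∀ (K' K : ToposFin.Sh J) (f : K' ⟶ K), K ∈ S → FinS S K' → Epi f → ∀ q : ℕ,
    IsZero ((CohCx.cechNerveCx F f).homology (q + 1))

variable {S : Set (ToposFin.Sh J)}

section

variable (hqc : ∀ K ∈ S, ToposFin.IsQC K) (hgen : ToposFin.IsGenerating S)
  (hpb : ToposFin.ClosedUnderPullbacks S)

include hqc hgen in
lemma exists_lift_rel {T : ShortComplex (Sheaf J AddCommGrpCat.{u})} (hT : T.ShortExact)
    (h : CechAcyc S T.X₁) {K : ToposFin.Sh J} (hK : K ∈ S) (s : (Zf J).obj K ⟶ T.X₃) :
    ∃ r : (Zf J).obj K ⟶ T.X₂, r ≫ T.g = s := by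
  have := hT.epi_g
  obtain ⟨K', k, hK', hepi⟩ := FinS.exists_refine hgen (hqc K hK) (liftF T.g s)
  obtain ⟨f, hf⟩ : ∃ f : K' ⟶ K, f = k ≫ liftF T.g s := ⟨_, rfl⟩
  rw [← hf] at hepi
  let p₀ : (Arrow.mk f).cechNerve.obj (op (SimplexCategory.mk 0)) ⟶ K' :=
    WidePullback.π (fun _ => f) 0
  have hp₀ : p₀ ≫ f = (Arrow.mk f).augmentedCechNerve.hom.app (op (SimplexCategory.mk 0)) :=
    WidePullback.π_arrow _ _
  have key : ((Zf J).map (p₀ ≫ k) ≫ liftT T.g s) ≫ T.g = π₀ f ≫ s := by
    rw [Category.assoc, liftT_comp, ← Category.assoc, ← Functor.map_comp, Category.assoc, ← hf,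
      hp₀]
    rfl
  exact exists_lift_of_cech_one f hT (h _ _ f hK hK' hepi 0) s _ key

include hqc hgen in
lemma subsingleton_HK_one_rel (F : Sheaf J AddCommGrpCat.{u}) (h : CechAcyc S F)
    {K : ToposFin.Sh J} (hK : K ∈ S) : Subsingleton (CohCx.HK K F 1) := by
  have hT := SiteCoh.sesInj_shortExact F
  suffices Subsingleton (Abelian.Ext.{u} ((Zf J).obj K) (SiteCoh.sesInj F).X₁ 1) from this
  refine subsingleton_of_forall_eq 0 (fun x => ?_)
  obtain ⟨s, rfl⟩ := extBoundary₀_surjective hT ((Zf J).obj K) x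
  exact (extBoundary₀_eq_zero_iff hT _ s).2 (exists_lift_rel hqc hgen hT h hK s)

include hqc hgen hpb in
lemma isZero_cech_X₃_rel {T : ShortComplex (Sheaf J AddCommGrpCat.{u})} (hT : T.ShortExact)
    [Injective T.X₂] (h : CechAcyc S T.X₁) {K' K : ToposFin.Sh J} (f : K' ⟶ K) (hK : K ∈ S)
    (hK' : FinS S K') [Epi f] (q : ℕ) :
    IsZero ((CohCx.cechNerveCx T.X₃ f).homology (q + 1)) := by
  have h1 : ∀ M ∈ S, Subsingleton (CohCx.HK M T.X₁ 1) :=
    fun M hM => subsingleton_HK_one_rel hqc hgen T.X₁ h hM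
  have hSC := cech_shortExact f hT (fun n s => by
    have hW : FinS S ((Arrow.mk f).cechNerve.obj (op (SimplexCategory.mk n))) :=
      FinS.cechNerve f hpb hK hK' n
    have : Subsingleton (Abelian.Ext.{u} ((AC f).X n) T.X₁ 1) :=
      hW.subsingleton_HK T.X₁ 1 h1
    exact exists_lift_of_subsingleton_ext_one hT _ s)
  have ex := hSC.homology_exact₃ (q + 1) (q + 2) (by simp)
  refine ex.isZero_of_both_zeros ?_ ?_
  · exact (isZero_homology_succ_of_injective f T.X₂ q).eq_of_src _ _
  · exact (h K' K f hK hK' inferInstance (q + 1)).eq_of_tgt _ _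

include hqc hgen hpb in
/-- **relative Cartan criterion** -/
theorem subsingleton_HK_succ_rel (p : ℕ) : ∀ (F : Sheaf J AddCommGrpCat.{u}) (_ : CechAcyc S F)
    (K : ToposFin.Sh J) (_ : K ∈ S), Subsingleton (CohCx.HK K F (p + 1)) := by
  induction p with
  | zero =>
    intro F h K hK
    exact subsingleton_HK_one_rel hqc hgen F h hK
  | succ p ih =>
    intro F h K hK
    have hT := SiteCoh.sesInj_shortExact F
    have hQ : Subsingleton (Abelian.Ext.{u} ((Zf J).obj K) (SiteCoh.sesInj F).X₃ (p + 1)) :=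
      ih (SiteCoh.sesInj F).X₃
        (fun K' K f hK hK' hf q => by
          have := hf
          exact isZero_cech_X₃_rel hqc hgen hpb hT h f hK hK' q) K hK
    suffices Subsingleton (Abelian.Ext.{u} ((Zf J).obj K) (SiteCoh.sesInj F).X₁ (p + 2)) from this
    exact (extShiftAddEquiv hT ((Zf J).obj K) p).symm.toEquiv.subsingleton

end

end Groth.Agent.Lib.Helper74.CohColim
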