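import Groth.Agent.Lib.Helper74.CohColim.HKColim
import Groth.Agent.Lib.Helper4.FreeSheafSite
import Groth.Agent.Lib.Helper28.EpsSite

/-!
# Glue between Mathlib's `Sheaf.cohomologyPresheaf` and `Ext (Zf (eps X)) -` (helper74)

* `zfEquiv J X F : (Zf (eps X) ⟶ F) ≃ F(X)`, natural in `F`.
* `isoZU J X : ZU J X ≅ Zf (eps J X)`.
* `preservesColimitsOfShape_cohomologyPresheaf`: in an algebraic topos, for `eps X` coherent,
  `F ↦ H^q(X, F)` (Mathlib's `cohomologyPresheafFunctor`) preserves filtered colimits.
* `isZero_cohomologyPresheaf_colimit`: vanishing on colimits of injectives.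
-/

set_option autoImplicit false
universe u

open CategoryTheory CategoryTheory.Limits Opposite
open Groth.Agent.Lib.Helper5.CechNerve Groth.Agent.Lib.Helper4 Groth.Agent.Lib.Helper28
open Groth.Agent.Lib.Helper74.CohColim

namespace Groth.Agent.Lib.Helper74.CohColim.SiteGlue

variable {C : Type u} [SmallCategory C] (J : GrothendieckTopology C)

/-- maps out of `ℤ[eps X]` are sections over `X` -/
noncomputable def zfEquiv (X : C) (F : Sheaf J AddCommGrpCat.{u}) :
    ((Zf J).obj (ToposFin.eps J X) ⟶ F) ≃ F.obj.obj (op X) :=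
  ((adjZ J).homEquiv (ToposFin.eps J X) F).trans (epsEquiv J X ((Fg J).obj F))

lemma zfEquiv_comp (X : C) {F G : Sheaf J AddCommGrpCat.{u}}
    (φ : (Zf J).obj (ToposFin.eps J X) ⟶ F) (f : F ⟶ G) :
    zfEquiv J X G (φ ≫ f) = f.hom.app (op X) (zfEquiv J X F φ) := by
  unfold zfEquiv
  simp only [Equiv.trans_apply]
  rw [Adjunction.homEquiv_naturality_right]
  exact epsEquiv_comp (J := J) (X := X) _ ((Fg J).map f)

/-- the two models of the free abelian sheaf on an object of the site agree -/
noncomputable def isoZU (X : C) : ZU J X ≅ (Zf J).obj (ToposFin.eps J X) :=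
  Coyoneda.ext _ _
    (fun {F} φ => (zfEquiv J X F).symm (ZUequiv X F φ))
    (fun {F} ψ => (ZUequiv X F).symm (zfEquiv J X F ψ))
    (fun {F} φ => by simp)
    (fun {F} ψ => by simp)
    (fun {F G} ψ g => by
      apply (ZUequiv X G).injective
      rw [Equiv.apply_symm_apply, zfEquiv_comp, ZUequiv_apply, ZUev_comp, ← ZUequiv_apply,
        Equiv.apply_symm_apply])

variable {J}

/-- Mathlib's `H^q(X, -)` as an `Ext` functor out of `ℤ[eps X]` -/
noncomputable def cohFunctorIso (X : C) (q : ℕ) :
    (Sheaf.cohomologyPresheafFunctor.{u} J q).flip.obj (op X) ≅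
      (Abelian.extFunctor.{u} q).obj (op ((Zf J).obj (ToposFin.eps J X))) :=
  (Iso.refl _ : _ ≅ (Abelian.extFunctor.{u} q).obj (op (ZU J X))) ≪≫
    ((Abelian.extFunctor.{u} q).mapIso (isoZU J X).op).symm

variable (hE : ToposFin.IsAlgebraic J) {Λ : Type u} [SmallCategory Λ] [IsFiltered Λ]

include hE in
/-- in an algebraic topos, `H^q(X, -)` commutes with filtered colimits when `eps X` is coherent -/
theorem preservesColimitsOfShape_cohomologyPresheaf {X : C}
    (hX : ToposFin.IsCoherent (ToposFin.eps J X)) (q : ℕ) :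
    PreservesColimitsOfShape Λ ((Sheaf.cohomologyPresheafFunctor.{u} J q).flip.obj (op X)) :=
  have := preservesColimitsOfShape_HK (Λ := Λ) hE hX q
  preservesColimitsOfShape_of_natIso (cohFunctorIso X q).symm

include hE in
/-- vanishing of `H^{q+1}(X, colim I)` for injective `I i` and `eps X` coherent -/
theorem isZero_cohomologyPresheaf_colimit {X : C}
    (hX : ToposFin.IsCoherent (ToposFin.eps J X)) (D : Λ ⥤ Sheaf J AddCommGrpCat.{u})
    (hD : ∀ i, Injective (D.obj i)) (q : ℕ) :
    IsZero (((colimit D).cohomologyPresheaf (q + 1)).obj (op X)) := by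
  have h := HA_of_isCoherent hE hX D hD q
  have e : ((colimit D).cohomologyPresheaf (q + 1)).obj (op X) ≅
      ((Abelian.extFunctor.{u} (q + 1)).obj (op ((Zf J).obj (ToposFin.eps J X)))).obj (colimit D) :=
    (cohFunctorIso X (q + 1)).app (colimit D)
  refine IsZero.of_iso ?_ e
  have h' : Subsingleton (((Abelian.extFunctor.{u} (q + 1)).obj
      (op ((Zf J).obj (ToposFin.eps J X)))).obj (colimit D)) := h
  exact AddCommGrpCat.isZero_of_subsingleton _

end Groth.Agent.Lib.Helper74.CohColim.SiteGlue
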